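import Cfsg.Agent.H362.CV.Dn
import Cfsg.Agent.H975.CVB.Row

/-!
# S3442: `OwnX` from (F) and the choice of the element (helper362)
-/

set_option autoImplicit false

namespace Cfsg.Agent.H362.CV

open Cfsg QuadraticMap Matrix Cfsg.Agent.H373.CV Cfsg.Agent.H975.CVB

universe u

/-- **The element**, with the condition in dimension `2m + 2`. -/
def ExTwo (F : Type) [Field F] (p m : ℕ) : Prop :=
  ∃ N M : GL (Fin m) F, M = N * N ∧ ¬ p ∣ orderOf M ∧
    (∃ (θ : Fin m → AlgebraicClosure F) (P : GL (Fin m) (AlgebraicClosure F)) (S : Fin m → Bool),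
      (M : Matrix (Fin m) (Fin m) F).map (algebraMap F (AlgebraicClosure F)) =
        (P : Matrix (Fin m) (Fin m) (AlgebraicClosure F)) * diagonal θ *
          ((P⁻¹ : GL (Fin m) (AlgebraicClosure F)) : Matrix (Fin m) (Fin m) (AlgebraicClosure F)) ∧
      ∏ j, (if S j then (θ j)⁻¹ else θ j) = 1) ∧
    ∀ (ι : Type) [Fintype ι] [DecidableEq ι] (B : Matrix ι ι F) (A : GL ι F), Fintype.card ι = 2 * m + 2 →
      IsUnit B → Bᵀ = B → (A : Matrix ι ι F)ᵀ * B * (A : Matrix ι ι F) = B → orderOf M ∣ orderOf A → ¬ p ∣ orderOf A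

theorem ownX_of {F : Type} [Field F] [Finite F] {p m : ℕ} [hp : Fact p.Prime] [CharP F p] (hp2 : p ≠ 2) (hm : 2 ≤ m)
    (hF : FixRow.{u} F p m) (hM : ExTwo F p m) : OwnX.{u, 0} p F m := by
  have h2 : (2 : F) ≠ 0 := two_ne (p := p) hp2
  obtain ⟨N, M, hNM, hpM, ⟨θ, P, S, hP, hprod⟩, hno⟩ := hM
  have hmem : levO m F M ∈ Omega F (quadFormOdd m F) := by
    rw [hNM, map_mul]
    exact mul_self_mem h2 (by omega) _
  obtain ⟨g, hg⟩ := conj_levO (algebraMap F (AlgebraicClosure F)) hP S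
  have ho : orderOf (⟨levO m F M, hmem⟩ : Omega F (quadFormOdd m F)) = orderOf M := by
    rw [← orderOf_levO M]
    exact Subgroup.orderOf_mk _ _
  refine ⟨⟨levO m F M, hmem⟩, by rwa [ho], ?_, ?_⟩
  · intro W _ _ _ hW φ
    exact hF ⟨levO m F M, hmem⟩ g (fun j => if S j then (θ j)⁻¹ else θ j) (by rwa [ho]) hg hprod W hW φ
  · intro ι _ _ Q hQ hc g hg
    obtain ⟨B, hB, hBt, hBg⟩ := exists_gram Q hQ
    rw [ho] at hg
    rw [← Subgroup.orderOf_coe g] at hg ⊢
    exact hno ι B g hc hB hBt (hBg g) hg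

end Cfsg.Agent.H362.CV
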