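import Cfsg.Agent.H362.CV.Emb
import Cfsg.Agent.LieClassical.OmegaReindex

/-!
# S3442: own characteristic, `PΩ^±_{2n}(q)` (helper362)

`OwnX p F m` : an element `x ∈ Ω_{2m+1}(q)` of order prime to `p` with fixed vectors in all modules in characteristic `p`, such
that `p` does not divide the order of an isometry in dimension `2m + 2` whose order is a multiple of the order of `x`.

* `hit_plus`, `hit_minus` : `OwnX p F m`, `m ≥ 3` ⇒ `Hit p (PΩ^±_{2m+2}(q))`.
-/

set_option autoImplicit false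

namespace Cfsg.Agent.H362.CV

open Cfsg QuadraticMap Matrix Cfsg.Agent.H373.CV
open Cfsg.Agent.LieClassical.OrthForms

universe u v

/-- the element of `Ω_{2m+1}(q)` -/
def OwnX (p : ℕ) (F : Type v) [Field F] (m : ℕ) : Prop :=
  ∃ x : Omega F (quadFormOdd m F), ¬ p ∣ orderOf x ∧
    (∀ (W : Type u) [AddCommGroup W] [Finite W] [Nontrivial W], (∀ w : W, p • w = 0) →
      ∀ φ : Omega F (quadFormOdd m F) →* AddMonoid.End W, ∃ w : W, w ≠ 0 ∧ φ x w = w) ∧
    ∀ (ι : Type) [Fintype ι] [DecidableEq ι] (Q : QuadraticForm F (ι → F)), (polarBilin Q).Nondegenerate →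
      Fintype.card ι = 2 * m + 2 → ∀ g : isometryGroup F ⇑Q, orderOf x ∣ orderOf g → ¬ p ∣ orderOf g

variable {p : ℕ} [hp : Fact p.Prime] {F : Type v} [Field F] [Finite F] [CharP F p]

include hp in
omit [Finite F] in
theorem two_ne (hp2 : p ≠ 2) : (2 : F) ≠ 0 := by
  intro h
  have h1 : ((2 : ℕ) : F) = 0 := by exact_mod_cast h
  have h2 := (CharP.cast_eq_zero_iff F p 2).1 h1
  exact hp2 ((Nat.prime_dvd_prime_iff_eq hp.out Nat.prime_two).1 h2)

/-- **`PΩ⁺_{2m+2}(q)`** -/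
theorem hit_plus (hp2 : p ≠ 2) {m : ℕ} (hm : 3 ≤ m) (h : OwnX.{u, v} p F m) :
    Hit.{u, v} p (POmega F (quadFormPlus (m + 1) F)) := by
  have h2 : (2 : F) ≠ 0 := two_ne (p := p) hp2
  obtain ⟨x, hx, hfix, hno⟩ := h
  have hQ : (polarBilin (plusForm (m + 1) F)).Nondegenerate :=
    LieClassical.OmegaReindex.nondegenerate_of_left _ (nondeg_plusForm (m + 1) F)
  have hc : Fintype.card (Fin (m + 1) ⊕ Fin (m + 1)) = 2 * m + 2 := by
    rw [Fintype.card_sum, Fintype.card_fin]; omega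
  have hs : ∃ u : Fin (m + 1) ⊕ Fin (m + 1) → F, u ≠ 0 ∧ plusForm (m + 1) F u = 0 := by
    classical
    refine ⟨Pi.single (.inl 0) 1, ?_, ?_⟩
    · intro h
      have := congrFun h (.inl 0)
      rw [Pi.single_eq_same] at this
      exact one_ne_zero this
    · rw [coe_plusForm, quadFormPlus_apply]
      exact Finset.sum_eq_zero fun i _ => by
        simp [Pi.single_apply]
  have h3 := hit_of_emb.{u, v} (p := p) h2 (plusForm (m + 1) F) hQ (by rw [hc]; omega) hs (ePlus h2 m)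
    (fun v => by rw [coe_plusForm]; exact ePlus_eq h2 m v) x hx hfix (hno _ _ hQ hc)
  rwa [coe_plusForm] at h3

/-- **`PΩ⁻_{2m+2}(q)`** -/
theorem hit_minus (hp2 : p ≠ 2) {m : ℕ} (hm : 3 ≤ m) {a b : F}
    (hab : ∀ z₁ z₂ : F, z₁ ^ 2 + a * z₁ * z₂ + b * z₂ ^ 2 = 0 → z₁ = 0 ∧ z₂ = 0) (h : OwnX.{u, v} p F m) :
    Hit.{u, v} p (POmega F (quadFormMinus m F a b)) := by
  have h2 : (2 : F) ≠ 0 := two_ne (p := p) hp2
  obtain ⟨x, hx, hfix, hno⟩ := h
  have hQ : (polarBilin (minusForm m F a b)).Nondegenerate :=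
    LieClassical.OmegaReindex.nondegenerate_of_left _ (nondeg_minusForm m F a b hab)
  have hc : Fintype.card ((Fin m ⊕ Fin m) ⊕ Fin 2) = 2 * m + 2 := by
    rw [Fintype.card_sum, Fintype.card_sum, Fintype.card_fin, Fintype.card_fin]; omega
  have hs : ∃ u : (Fin m ⊕ Fin m) ⊕ Fin 2 → F, u ≠ 0 ∧ minusForm m F a b u = 0 := by
    classical
    refine ⟨Pi.single (.inl (.inl ⟨0, by omega⟩)) 1, ?_, ?_⟩
    · intro h
      have := congrFun h (.inl (.inl ⟨0, by omega⟩))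
      rw [Pi.single_eq_same] at this
      exact one_ne_zero this
    · rw [coe_minusForm, quadFormMinus_apply, Finset.sum_eq_zero fun i _ => by
        simp [Pi.single_apply]]
      simp
  have h3 := hit_of_emb.{u, v} (p := p) h2 (minusForm m F a b) hQ (by rw [hc]; omega) hs (eMinus a m)
    (fun v => by rw [coe_minusForm]; exact eMinus_eq h2 m a b v) x hx hfix (hno _ _ hQ hc)
  rwa [coe_minusForm] at h3

/-- the field `plus_own` of `HitRows` -/
theorem plus_own (hp2 : p ≠ 2) {n : ℕ} (hn : 4 ≤ n) (h : OwnX.{u, v} p F (n - 1)) :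
    Hit.{u, v} p (POmega F (quadFormPlus n F)) := by
  obtain ⟨m, rfl⟩ : ∃ m, n = m + 1 := ⟨n - 1, by omega⟩
  exact hit_plus hp2 (by omega) h

/-- the field `minus_own` of `HitRows` -/
theorem minus_own (hp2 : p ≠ 2) {n : ℕ} (hn : 4 ≤ n) {a b : F}
    (hab : ∀ z₁ z₂ : F, z₁ ^ 2 + a * z₁ * z₂ + b * z₂ ^ 2 = 0 → z₁ = 0 ∧ z₂ = 0) (h : OwnX.{u, v} p F (n - 1)) :
    Hit.{u, v} p (POmega F (quadFormMinus (n - 1) F a b)) :=
  hit_minus hp2 (by omega) hab h

end Cfsg.Agent.H362.CV
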