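import Cfsg.Agent.H373.CV.Base
import Cfsg.Agent.H420.Lift
import Cfsg.Agent.LieClassical.OrthForms
import Cfsg.Agent.LieClassical.OrthCount

/-!
# S3442: own characteristic, `PΩ^±_{2n}(q)`: embedding of `Ω_{2n-1}(q)` (helper362)

* `emb e he : isometryGroup F Q₁ →* isometryGroup F Q` for `e : (ι → F) ≃ₗ (ι₁ → F) × F`, `Q v = Q₁ (e v).1 + c (e v).2 ^ 2`;
* `hit_of_emb` : if `x ∈ Ω(Q₁)` of order prime to `p` has a fixed vector on every nonzero finite `F_p Ω(Q₁)`-module and `p`
  does not divide the order of an isometry of `Q` whose order is a multiple of that of `x`, then `Hit p (PΩ(Q))`;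
* `ePlus`, `eMinus` : the two cases.
-/

set_option autoImplicit false
set_option linter.unusedSectionVars false

namespace Cfsg.Agent.H362.CV

open Cfsg QuadraticMap Matrix Cfsg.Agent.H373.CV Finset
open Cfsg.Agent.H420.Lift (opHom opHom_apply opHom_injective opHom_eq_one_iff)
open Cfsg.Agent.LieClassical.OrthCount (glEquiv glEquiv_apply mem_isometryGroup_iff)
open Cfsg.Agent.LieClassical.OmegaCenter (omegaMat omega_ext mem_center_omega_iff)

universe u v

section emb

variable {F : Type v} [Field F] {ι₁ ι : Type} [Fintype ι₁] [DecidableEq ι₁] [Fintype ι] [DecidableEq ι]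

/-- linear automorphisms of the first factor -/
def embLin (e : (ι → F) ≃ₗ[F] (ι₁ → F) × F) : ((ι₁ → F) ≃ₗ[F] (ι₁ → F)) →* ((ι → F) ≃ₗ[F] (ι → F)) where
  toFun g := e.trans ((g.prodCongr (LinearEquiv.refl F F)).trans e.symm)
  map_one' := by
    apply LinearEquiv.ext
    intro v
    exact e.symm_apply_apply v
  map_mul' g h := by
    apply LinearEquiv.ext
    intro v
    change e.symm (g (h (e v).1), (e v).2) = e.symm (g (e (e.symm (h (e v).1, (e v).2))).1, (e (e.symm (h (e v).1, (e v).2))).2)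
    rw [e.apply_symm_apply]

theorem embLin_apply (e : (ι → F) ≃ₗ[F] (ι₁ → F) × F) (g : (ι₁ → F) ≃ₗ[F] (ι₁ → F)) (v : ι → F) :
    embLin e g v = e.symm (g (e v).1, (e v).2) := rfl

variable {Q₁ : (ι₁ → F) → F} {Q : (ι → F) → F} (e : (ι → F) ≃ₗ[F] (ι₁ → F) × F) {c : F}
  (he : ∀ v, Q v = Q₁ (e v).1 + c * (e v).2 ^ 2)

/-- the embedding of the isometry groups -/
noncomputable def emb : isometryGroup F Q₁ →* isometryGroup F Q :=
  ((glEquiv ι F).symm.toMonoidHom.comp ((embLin e).comp
    ((glEquiv ι₁ F).toMonoidHom.comp (isometryGroup F Q₁).subtype))).codRestrict _ (fun g => by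
      rw [mem_isometryGroup_iff]
      intro x
      rw [← glEquiv_apply]
      change Q (glEquiv ι F ((glEquiv ι F).symm (embLin e (glEquiv ι₁ F g))) x) = _
      rw [MulEquiv.apply_symm_apply, embLin_apply, he, e.apply_symm_apply, he x]
      congr 1
      exact (mem_isometryGroup_iff _ _).1 g.2 _)

theorem emb_apply (g : isometryGroup F Q₁) (v : ι → F) :
    opHom Q (emb e he g) v = e.symm (opHom Q₁ g (e v).1, (e v).2) := by
  change glEquiv ι F ((glEquiv ι F).symm (embLin e (glEquiv ι₁ F g))) v = _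
  rw [MulEquiv.apply_symm_apply, embLin_apply]
  rfl

theorem emb_injective : Function.Injective (emb e he) := by
  rw [injective_iff_map_eq_one]
  intro g hg
  rw [← opHom_eq_one_iff]
  apply LinearMap.ext
  intro w
  have h1 := emb_apply e he g (e.symm (w, 0))
  rw [hg, map_one, e.apply_symm_apply, Module.End.one_apply] at h1
  have h2 := e.symm.injective h1
  exact (congrArg Prod.fst h2).symm

theorem emb_mem (g : Omega F Q₁) : emb e he (g : isometryGroup F Q₁) ∈ Omega F Q := by
  have h1 : (Omega F Q₁).map (emb e he) ≤ Omega F Q := by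
    unfold Omega
    rw [commutator_def, Subgroup.map_commutator, commutator_def]
    exact Subgroup.commutator_mono le_top le_top
  exact h1 (Subgroup.mem_map_of_mem _ g.2)

/-- the embedding of `Ω(Q₁)` into `Ω(Q)` -/
noncomputable def embO : Omega F Q₁ →* Omega F Q :=
  ((emb e he).comp (Omega F Q₁).subtype).codRestrict _ (emb_mem e he)

theorem coe_embO (g : Omega F Q₁) : ((embO e he g : Omega F Q) : isometryGroup F Q) = emb e he g := rfl

theorem embO_injective : Function.Injective (embO e he) := by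
  intro g h hgh
  apply Subtype.ext
  apply emb_injective e he
  exact congrArg Subtype.val hgh

/-- the last coordinate is fixed -/
theorem emb_fix (g : isometryGroup F Q₁) : opHom Q (emb e he g) (e.symm (0, 1)) = e.symm (0, 1) := by
  rw [emb_apply, e.apply_symm_apply, map_zero]

end emb

section hit

variable {F : Type v} [Field F] [Finite F] {ι₁ ι : Type} [Fintype ι₁] [DecidableEq ι₁] [Fintype ι] [DecidableEq ι]

/-- **from `Ω(Q₁)` to `PΩ(Q)`** -/
theorem hit_of_emb {p : ℕ} [hp : Fact p.Prime] (h2 : (2 : F) ≠ 0) {Q₁ : (ι₁ → F) → F} (Q : QuadraticForm F (ι → F))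
    (hQ : (polarBilin Q).Nondegenerate) (hn : 3 ≤ Fintype.card ι) (hs : ∃ u : ι → F, u ≠ 0 ∧ Q u = 0)
    (e : (ι → F) ≃ₗ[F] (ι₁ → F) × F) {c : F} (he : ∀ v, Q v = Q₁ (e v).1 + c * (e v).2 ^ 2) (x : Omega F Q₁)
    (hx : ¬ p ∣ orderOf x)
    (hfix : ∀ (W : Type u) [AddCommGroup W] [Finite W] [Nontrivial W], (∀ w : W, p • w = 0) →
      ∀ φ : Omega F Q₁ →* AddMonoid.End W, ∃ w : W, w ≠ 0 ∧ φ x w = w)
    (hno : ∀ g : isometryGroup F ⇑Q, orderOf x ∣ orderOf g → ¬ p ∣ orderOf g) : Hit.{u, v} p (POmega F ⇑Q) := by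
  intro W _ _ _ hW φ
  let f : Omega F Q₁ →* POmega F ⇑Q := (QuotientGroup.mk' _).comp (embO e he)
  have hf : ∀ k : ℕ, f x ^ k = 1 → x ^ k = 1 := by
    intro k hk
    have h1 : embO e he (x ^ k) ∈ Subgroup.center (Omega F ⇑Q) := by
      rw [← QuotientGroup.eq_one_iff]
      rw [← map_pow] at hk
      exact hk
    have h3 : embO e he (x ^ k) = 1 := by
      apply omega_ext
      have h5 : ∀ v, opHom (⇑Q) (emb e he ((x ^ k : Omega F Q₁) : isometryGroup F Q₁)) v =
          (omegaMat (embO e he (x ^ k))) *ᵥ v := fun v => rfl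
      rcases (mem_center_omega_iff Q hQ hn hs _).1 h1 with h4 | h4
      · exact h4
      · exfalso
        have h6 := emb_fix e he ((x ^ k : Omega F Q₁) : isometryGroup F Q₁)
        rw [h5, h4, Matrix.neg_mulVec, Matrix.one_mulVec] at h6
        have h7 : (2 : F) • e.symm (0, 1) = 0 := by
          rw [two_smul]
          nth_rewrite 1 [← h6]
          exact neg_add_cancel _
        rcases smul_eq_zero.1 h7 with h8 | h8
        · exact h2 h8
        · have h9 := (e.symm.map_eq_zero_iff).1 h8
          exact one_ne_zero (congrArg Prod.snd h9)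
    exact embO_injective e he (h3.trans (map_one _).symm)
  have ho : orderOf (f x) = orderOf x := by
    refine Nat.dvd_antisymm (orderOf_map_dvd f x) (orderOf_dvd_of_pow_eq_one (hf _ (pow_orderOf_eq_one _)))
  obtain ⟨w, hw0, hw⟩ := hfix W hW (φ.comp f)
  have hw' : φ (f x) w = w := hw
  refine ⟨f x, w, ?_, ?_⟩
  · have h1 : ∀ i : ℕ, φ (f x ^ i) w = w := by
      intro i
      induction i with
      | zero => rw [pow_zero, map_one]; rfl
      | succ i ih =>
        rw [pow_succ, map_mul]
        change φ (f x ^ i) (φ (f x) w) = w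
        rw [hw', ih]
    rw [Finset.sum_congr rfl (fun i _ => h1 i), Finset.sum_const, Finset.card_range, ho]
    intro h3
    have h4 : IsCoprime ((orderOf x : ℕ) : ℤ) (p : ℤ) :=
      Nat.isCoprime_iff_coprime.2 ((Nat.coprime_comm.1 ((Nat.Prime.coprime_iff_not_dvd hp.out).2 hx)))
    obtain ⟨a, b, hab⟩ := h4
    apply hw0
    have h5 : (1 : ℤ) • w = 0 := by
      rw [← hab, add_smul, mul_smul, mul_smul, natCast_zsmul, natCast_zsmul, h3, hW, smul_zero, smul_zero, add_zero]
    rwa [one_smul] at h5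
  · intro y hy
    obtain ⟨g, rfl⟩ := QuotientGroup.mk_surjective y
    rw [ho] at hy
    have h1 : p * orderOf x ∣ orderOf ((g : Omega F ⇑Q) : isometryGroup F ⇑Q) := by
      rw [Subgroup.orderOf_coe, ← hy]
      exact orderOf_map_dvd (QuotientGroup.mk' _) g
    exact hno g ((Dvd.intro_left _ rfl).trans h1) ((Dvd.intro _ rfl).trans h1)

end hit

section plus

variable {F : Type v} [Field F]

/-- `(x + y)(x - y) = x² - y²` -/
noncomputable def ePlus (h2 : (2 : F) ≠ 0) (m : ℕ) :
    (Fin (m + 1) ⊕ Fin (m + 1) → F) ≃ₗ[F] (Unit ⊕ (Fin m ⊕ Fin m) → F) × F where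
  toFun v := (Sum.elim (fun _ => (v (.inl (Fin.last m)) + v (.inr (Fin.last m))) / 2)
    (Sum.elim (fun i => v (.inl i.castSucc)) (fun i => v (.inr i.castSucc))),
    (v (.inl (Fin.last m)) - v (.inr (Fin.last m))) / 2)
  map_add' u v := by
    refine Prod.ext ?_ ?_
    · funext i
      rcases i with i | i | i
      · simp only [Sum.elim_inl, Prod.fst_add, Pi.add_apply]; ring
      · simp only [Sum.elim_inl, Sum.elim_inr, Prod.fst_add, Pi.add_apply]
      · simp only [Sum.elim_inr, Prod.fst_add, Pi.add_apply]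
    · simp only [Prod.snd_add, Pi.add_apply]; ring
  map_smul' a v := by
    refine Prod.ext ?_ ?_
    · funext i
      rcases i with i | i | i
      · simp only [Sum.elim_inl, Prod.smul_fst, Pi.smul_apply, smul_eq_mul, RingHom.id_apply]; ring
      · simp only [Sum.elim_inl, Sum.elim_inr, Prod.smul_fst, Pi.smul_apply, RingHom.id_apply]
      · simp only [Sum.elim_inr, Prod.smul_fst, Pi.smul_apply, RingHom.id_apply]
    · simp only [Prod.smul_snd, Pi.smul_apply, smul_eq_mul, RingHom.id_apply]; ring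
  invFun w := Sum.elim (Fin.lastCases (w.1 (.inl ()) + w.2) (fun i => w.1 (.inr (.inl i))))
    (Fin.lastCases (w.1 (.inl ()) - w.2) (fun i => w.1 (.inr (.inr i))))
  left_inv v := by
    funext i
    rcases i with i | i
    · refine Fin.lastCases ?_ (fun i => ?_) i
      · simp only [Sum.elim_inl, Fin.lastCases_last]; field_simp; ring
      · simp only [Sum.elim_inl, Sum.elim_inr, Fin.lastCases_castSucc]
    · refine Fin.lastCases ?_ (fun i => ?_) i
      · simp only [Sum.elim_inl, Sum.elim_inr, Fin.lastCases_last]; field_simp; ring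
      · simp only [Sum.elim_inr, Fin.lastCases_castSucc]
  right_inv w := by
    refine Prod.ext ?_ ?_
    · funext i
      rcases i with i | i | i
      · simp only [Sum.elim_inl, Sum.elim_inr, Fin.lastCases_last]
        field_simp
        ring
      · simp only [Sum.elim_inl, Sum.elim_inr, Fin.lastCases_castSucc]
      · simp only [Sum.elim_inr, Fin.lastCases_castSucc]
    · simp only [Sum.elim_inl, Sum.elim_inr, Fin.lastCases_last]
      field_simp
      ring

theorem ePlus_eq (h2 : (2 : F) ≠ 0) (m : ℕ) (v : Fin (m + 1) ⊕ Fin (m + 1) → F) :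
    quadFormPlus (m + 1) F v = quadFormOdd m F (ePlus h2 m v).1 + (-1) * (ePlus h2 m v).2 ^ 2 := by
  unfold quadFormPlus quadFormOdd
  rw [Fin.sum_univ_castSucc]
  change _ = ((v (.inl (Fin.last m)) + v (.inr (Fin.last m))) / 2) ^ 2 +
    ∑ i : Fin m, v (.inl i.castSucc) * v (.inr i.castSucc) +
    (-1) * ((v (.inl (Fin.last m)) - v (.inr (Fin.last m))) / 2) ^ 2
  field_simp
  ring

/-- `z₁² + a z₁ z₂ + b z₂² = (z₁ + (a/2) z₂)² + (b - a²/4) z₂²` -/
noncomputable def eMinus (a : F) (m : ℕ) :
    ((Fin m ⊕ Fin m) ⊕ Fin 2 → F) ≃ₗ[F] (Unit ⊕ (Fin m ⊕ Fin m) → F) × F where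
  toFun v := (Sum.elim (fun _ => v (.inr 0) + a / 2 * v (.inr 1)) (fun i => v (.inl i)), v (.inr 1))
  map_add' u v := by
    refine Prod.ext ?_ ?_
    · funext i
      rcases i with i | i
      · simp only [Sum.elim_inl, Prod.fst_add, Pi.add_apply]; ring
      · simp only [Sum.elim_inr, Prod.fst_add, Pi.add_apply]
    · simp only [Prod.snd_add, Pi.add_apply]
  map_smul' c v := by
    refine Prod.ext ?_ ?_
    · funext i
      rcases i with i | i
      · simp only [Sum.elim_inl, Prod.smul_fst, Pi.smul_apply, smul_eq_mul, RingHom.id_apply]; ring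
      · simp only [Sum.elim_inr, Prod.smul_fst, Pi.smul_apply, RingHom.id_apply]
    · simp only [Prod.smul_snd, Pi.smul_apply, RingHom.id_apply]
  invFun w := Sum.elim (fun i => w.1 (.inr i)) ![w.1 (.inl ()) - a / 2 * w.2, w.2]
  left_inv v := by
    funext i
    rcases i with i | i
    · simp only [Sum.elim_inl, Sum.elim_inr]
    · fin_cases i
      · simp
      · simp
  right_inv w := by
    refine Prod.ext ?_ ?_
    · funext i
      rcases i with i | i
      · simp
      · simp only [Sum.elim_inl, Sum.elim_inr]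
    · simp

theorem eMinus_eq (h2 : (2 : F) ≠ 0) (m : ℕ) (a b : F) (v : (Fin m ⊕ Fin m) ⊕ Fin 2 → F) :
    quadFormMinus m F a b v = quadFormOdd m F (eMinus a m v).1 + (b - a ^ 2 / 4) * (eMinus a m v).2 ^ 2 := by
  unfold quadFormMinus quadFormOdd
  change _ = (v (.inr 0) + a / 2 * v (.inr 1)) ^ 2 + ∑ i : Fin m, v (.inl (.inl i)) * v (.inl (.inr i)) +
    (b - a ^ 2 / 4) * (v (.inr 1)) ^ 2
  have h4 : (4 : F) ≠ 0 := by
    have : (4 : F) = 2 * 2 := by norm_num
    rw [this]
    exact mul_ne_zero h2 h2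
  field_simp
  ring

end plus

end Cfsg.Agent.H362.CV
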