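import Cfsg.Agent.H416.CV.Ev

/-!
# S3442: matrices over `F` with the eigenvalues `c ^ q ^ k` (helper362)

* `exists_N` : `c ≠ 0`, `deg c = m` ⇒ there is `N ∈ GL_m(F)` diagonalizable over the algebraic closure with the eigenvalues
  `c ^ q ^ k`, `k < m`;
* `orderOf_diag` : the order of such a matrix;
* `exists_elem` : elements of given order prime to `q`.
-/

set_option autoImplicit false
set_option linter.unusedSectionVars false

namespace Cfsg.Agent.H362.CV

open Matrix Polynomial Cfsg.Agent.H416.CV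

variable {F : Type*} [Field F] [Fintype F]

local notation "𝕂" => AlgebraicClosure F
local notation "𝕢" => Fintype.card F

theorem mem_range_of_pow {x : 𝕂} (h : x ^ 𝕢 = x) : ∃ s : F, algebraMap F 𝕂 s = x := by
  have hx : IsIntegral F x := Algebra.IsIntegral.isIntegral x
  have h1 : (minpoly F x).natDegree ∣ 1 := by
    rw [(minpoly.irreducible hx).natDegree_dvd_iff_dvd_X_pow_card_pow_sub_X,
      ← (minpoly.irreducible hx).dvd_iff_aeval_eq_zero (minpoly.aeval F x), map_sub, map_pow, aeval_X, pow_one,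
      Nat.card_eq_fintype_card, h, sub_self]
  exact minpoly.natDegree_eq_one_iff.1 (Nat.dvd_one.1 h1)

/-- **a matrix with the eigenvalues `c ^ q ^ k`** -/
theorem exists_N {m : ℕ} {c : 𝕂} (hc : c ≠ 0) (hd : deg c = m) :
    ∃ (N : GL (Fin m) F) (P : GL (Fin m) (𝕂)), (N : Matrix (Fin m) (Fin m) F).map (algebraMap F 𝕂) =
      (P : Matrix (Fin m) (Fin m) (𝕂)) * diagonal (fun k : Fin m => c ^ 𝕢 ^ (k : ℕ)) *
        ((P⁻¹ : GL (Fin m) (𝕂)) : Matrix (Fin m) (Fin m) (𝕂)) := by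
  obtain ⟨n, rfl⟩ : ∃ n, m = n + 1 := ⟨m - 1, by have := deg_pos hc; omega⟩
  obtain ⟨σ, hσ⟩ := exists_frob F
  set V : Matrix (Fin (n + 1)) (Fin (n + 1)) (𝕂) := vandermonde (fun k : Fin (n + 1) => c ^ 𝕢 ^ (k : ℕ)) with hV
  set D : Matrix (Fin (n + 1)) (Fin (n + 1)) (𝕂) := diagonal (fun k : Fin (n + 1) => c ^ 𝕢 ^ (k : ℕ)) with hD
  have hinj : Function.Injective (fun k : Fin (n + 1) => c ^ 𝕢 ^ (k : ℕ)) := by
    intro i j hij
    have h1 := (pow_eq_iff hc i j).1 hij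
    rw [hd] at h1
    exact Fin.ext (Nat.ModEq.eq_of_lt_of_lt h1 i.2 j.2)
  have hVd : V.det ≠ 0 := det_vandermonde_ne_zero_iff.2 hinj
  have hVu : IsUnit V := (Matrix.isUnit_iff_isUnit_det V).2 (isUnit_iff_ne_zero.2 hVd)
  have hVi : V⁻¹ * V = 1 := Matrix.nonsing_inv_mul _ (isUnit_iff_ne_zero.2 hVd)
  have hVi' : V * V⁻¹ = 1 := Matrix.mul_nonsing_inv _ (isUnit_iff_ne_zero.2 hVd)
  let e : Fin (n + 1) ≃ Fin (n + 1) := finRotate (n + 1)
  have he : ∀ k : Fin (n + 1), c ^ 𝕢 ^ ((e k : Fin (n + 1)) : ℕ) = (c ^ 𝕢 ^ (k : ℕ)) ^ 𝕢 := by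
    intro k
    rw [← pow_mul, ← pow_succ]
    refine (pow_eq_iff hc _ _).2 ?_
    rw [hd]
    change ((finRotate (n + 1) k : Fin (n + 1)) : ℕ) ≡ _ [MOD n + 1]
    rw [finRotate_succ_apply, Fin.val_add]
    refine (Nat.mod_modEq _ _).trans ?_
    exact Nat.ModEq.add_left _ (by rw [Fin.val_one']; exact Nat.mod_modEq _ _)
  have hσV : V.map σ = V.submatrix e id := by
    ext k i
    rw [Matrix.map_apply, Matrix.submatrix_apply, hV, vandermonde_apply, vandermonde_apply, he, map_pow, hσ]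
    rfl
  have hσD : D.map σ = D.submatrix e e := by
    ext k i
    rw [Matrix.map_apply, Matrix.submatrix_apply, hD, diagonal_apply, diagonal_apply]
    by_cases h : k = i
    · rw [if_pos h, if_pos (congrArg e h), he, hσ]
    · rw [if_neg h, if_neg (fun h' => h (e.injective h')), map_zero]
  have hσVi : (V⁻¹).map σ = V⁻¹.submatrix id e := by
    have h1 : V.map σ * (V⁻¹).map σ = 1 := by
      rw [← Matrix.map_mul, hVi', Matrix.map_one _ (map_zero _) (map_one _)]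
    have h2 : (V.map σ)⁻¹ = (V⁻¹).map σ := Matrix.inv_eq_right_inv h1
    have h3 := Matrix.inv_submatrix_equiv V e (Equiv.refl _)
    rw [← h2, hσV]
    exact h3
  set N' := V⁻¹ * D * V with hN'
  have hfix : N'.map σ = N' := by
    rw [hN', Matrix.map_mul, Matrix.map_mul, hσV, hσD, hσVi, Matrix.submatrix_mul_equiv, Matrix.submatrix_mul_equiv]
    rfl
  have hent : ∀ i j, ∃ s : F, algebraMap F 𝕂 s = N' i j := by
    intro i j
    refine mem_range_of_pow ?_
    have h1 := congrFun (congrFun hfix i) j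
    rw [Matrix.map_apply, hσ] at h1
    exact h1
  choose N₀ hN₀ using hent
  have hmap : (Matrix.of N₀).map (algebraMap F 𝕂) = N' := by
    ext i j
    exact hN₀ i j
  have hdet : (Matrix.of N₀).det ≠ 0 := by
    intro h
    have h1 : N'.det = 0 := by
      rw [← hmap]
      have h2 := (algebraMap F 𝕂).map_det (Matrix.of N₀)
      rw [h, map_zero] at h2
      exact h2.symm
    rw [hN', det_mul, det_mul, hD, det_diagonal] at h1
    rcases mul_eq_zero.1 h1 with h2 | h2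
    · rcases mul_eq_zero.1 h2 with h3 | h3
      · have h4 := congrArg Matrix.det hVi
        rw [det_mul, h3, zero_mul, det_one] at h4
        exact zero_ne_one h4
      · exact (Finset.prod_ne_zero_iff.2 fun k _ => pow_ne_zero _ hc) h3
    · exact hVd h2
  refine ⟨Matrix.GeneralLinearGroup.mkOfDetNeZero _ hdet, (hVu.unit)⁻¹, ?_⟩
  change (Matrix.of N₀).map (algebraMap F 𝕂) = _
  rw [hmap, inv_inv, Matrix.coe_units_inv]
  rfl

/-- the order of a diagonalizable matrix -/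
theorem orderOf_dvd_iff {ι : Type*} [Fintype ι] [DecidableEq ι] {M : GL ι F} {P : GL ι (𝕂)} {θ : ι → 𝕂}
    (h : (M : Matrix ι ι F).map (algebraMap F 𝕂) = (P : Matrix ι ι (𝕂)) * diagonal θ *
      ((P⁻¹ : GL ι (𝕂)) : Matrix ι ι (𝕂))) (k : ℕ) : orderOf M ∣ k ↔ ∀ i, θ i ^ k = 1 := by
  have hPP : (P : Matrix ι ι (𝕂)) * ((P⁻¹ : GL ι (𝕂)) : Matrix ι ι (𝕂)) = 1 := Units.mul_inv P
  have hPP' : ((P⁻¹ : GL ι (𝕂)) : Matrix ι ι (𝕂)) * (P : Matrix ι ι (𝕂)) = 1 := Units.inv_mul P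
  have h1 : ∀ n : ℕ, ((M : Matrix ι ι F).map (algebraMap F 𝕂)) ^ n = (P : Matrix ι ι (𝕂)) * diagonal (fun i => θ i ^ n) *
      ((P⁻¹ : GL ι (𝕂)) : Matrix ι ι (𝕂)) := by
    intro n
    induction n with
    | zero =>
      have : (fun i => θ i ^ 0) = fun _ => (1 : 𝕂) := funext fun i => pow_zero _
      rw [this, diagonal_one, mul_one, hPP, pow_zero]
    | succ n ih =>
      rw [pow_succ, ih, h]
      calc (P : Matrix ι ι (𝕂)) * diagonal (fun i => θ i ^ n) * ((P⁻¹ : GL ι (𝕂)) : Matrix ι ι (𝕂)) *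
            ((P : Matrix ι ι (𝕂)) * diagonal θ * ((P⁻¹ : GL ι (𝕂)) : Matrix ι ι (𝕂)))
          = (P : Matrix ι ι (𝕂)) * diagonal (fun i => θ i ^ n) * (((P⁻¹ : GL ι (𝕂)) : Matrix ι ι (𝕂)) *
            (P : Matrix ι ι (𝕂))) * diagonal θ * ((P⁻¹ : GL ι (𝕂)) : Matrix ι ι (𝕂)) := by
            simp only [mul_assoc]
        _ = _ := by
            rw [hPP', mul_one, mul_assoc (P : Matrix ι ι (𝕂)) (diagonal fun i => θ i ^ n) (diagonal θ),
              diagonal_mul_diagonal]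
            simp only [pow_succ]
  constructor
  · intro h2 i
    have h3 : M ^ k = 1 := orderOf_dvd_iff_pow_eq_one.1 h2
    have h4 : ((M : Matrix ι ι F).map (algebraMap F 𝕂)) ^ k = 1 := by
      have h5 : (M : Matrix ι ι F) ^ k = 1 := by rw [← Units.val_pow_eq_pow_val, h3, Units.val_one]
      have h6 := map_pow (algebraMap F 𝕂).mapMatrix (M : Matrix ι ι F) k
      rw [h5, map_one] at h6
      exact h6.symm
    rw [h1] at h4
    have h5 : diagonal (fun i => θ i ^ k) = (1 : Matrix ι ι (𝕂)) := by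
      have h6 := congrArg (fun X => ((P⁻¹ : GL ι (𝕂)) : Matrix ι ι (𝕂)) * X * (P : Matrix ι ι (𝕂))) h4
      simp only [mul_one, hPP'] at h6
      rw [← h6]
      simp only [mul_assoc, hPP', mul_one]
      rw [← mul_assoc, hPP', one_mul]
    have h6 := congrFun (congrFun h5 i) i
    rw [diagonal_apply_eq, Matrix.one_apply_eq] at h6
    exact h6
  · intro h2
    apply orderOf_descend
    rw [h1]
    have h3 : (fun i => θ i ^ k) = fun _ => (1 : 𝕂) := funext h2
    rw [h3, diagonal_one, mul_one, hPP]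

/-- elements of order `n` -/
theorem exists_elem {n : ℕ} (hn0 : n ≠ 0) (hn : Nat.Coprime 𝕢 n) : ∃ c : 𝕂, c ≠ 0 ∧ orderOf c = n := by
  obtain ⟨p, hp⟩ := CharP.exists F
  obtain ⟨k, hpp, hk⟩ := FiniteField.card F p
  have hKp : CharP 𝕂 p := charP_of_injective_algebraMap (algebraMap F 𝕂).injective p
  have h1 : NeZero ((n : ℕ) : 𝕂) := by
    refine ⟨fun h => ?_⟩
    have h2 := (CharP.cast_eq_zero_iff 𝕂 p n).1 h
    rw [hk] at hn
    have h3 : p ∣ Nat.gcd (p ^ (k : ℕ)) n := Nat.dvd_gcd (dvd_pow_self p k.2.ne') h2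
    rw [hn] at h3
    exact hpp.one_lt.ne' (Nat.dvd_one.1 h3)
  obtain ⟨c, hc⟩ := HasEnoughRootsOfUnity.exists_primitiveRoot 𝕂 n
  have h2 := hc.eq_orderOf
  refine ⟨c, ?_, h2.symm⟩
  rintro rfl
  exact hc.ne_zero hn0 rfl

end Cfsg.Agent.H362.CV
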