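import Cfsg.Agent.H362.CV.Mat
import Cfsg.Agent.H416.CV.Cen

/-!
# S3442: the choice of the element of `GL_m(F)` (helper362)

`MM F p m` : the element `M = N²` with the divisibility conditions `Big` of helper416.
-/

set_option autoImplicit false
set_option linter.unusedSectionVars false

namespace Cfsg.Agent.H362.CV

open Matrix Polynomial Cfsg.Agent.H416.CV

/-- **The element of `GL_m(F)`** -/
def MM (F : Type*) [Field F] [Fintype F] (p m : ℕ) : Prop :=
  ∃ N M : GL (Fin m) F, M = N * N ∧ ¬ p ∣ orderOf M ∧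
    (∃ (θ : Fin m → AlgebraicClosure F) (P : GL (Fin m) (AlgebraicClosure F)) (S : Fin m → Bool),
      (M : Matrix (Fin m) (Fin m) F).map (algebraMap F (AlgebraicClosure F)) =
        (P : Matrix (Fin m) (Fin m) (AlgebraicClosure F)) * diagonal θ *
          ((P⁻¹ : GL (Fin m) (AlgebraicClosure F)) : Matrix (Fin m) (Fin m) (AlgebraicClosure F)) ∧
      ∏ j, (if S j then (θ j)⁻¹ else θ j) = 1) ∧
    Big (Fintype.card F) m (orderOf M)

end Cfsg.Agent.H362.CV
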