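import Cfsg.Agent.H362.CV.Mm0
import Cfsg.Agent.Lib.Zsigmondy

/-!
# S3442: the element of `GL_m(F)`, `m` odd, `m = 4`, `m = 6` (helper362)
-/

set_option autoImplicit false
set_option linter.unusedSectionVars false

namespace Cfsg.Agent.H362.CV

open Matrix Polynomial Cfsg.Agent.H416.CV

variable {F : Type*} [Field F] [Fintype F]

local notation "𝕂" => AlgebraicClosure F
local notation "𝕢" => Fintype.card F

/-- the general form: the eigenvalues `(c²) ^ q ^ k` -/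
theorem mm_of {p m : ℕ} [hp : Fact p.Prime] [CharP F p] {c : 𝕂} (hc : c ≠ 0) (hd : deg c = m) (S : Fin m → Bool)
    (hS : ((orderOf (c * c) : ℕ) : ℤ) ∣ ∑ k : Fin m, (if S k then (-1 : ℤ) else 1) * (𝕢 : ℤ) ^ (k : ℕ))
    (hbig : Big (𝕢) m (orderOf (c * c))) : MM F p m := by
  obtain ⟨N, P, hN⟩ := exists_N hc hd
  have hPP' : ((P⁻¹ : GL (Fin m) (𝕂)) : Matrix (Fin m) (Fin m) (𝕂)) * (P : Matrix (Fin m) (Fin m) (𝕂)) = 1 :=
    Units.inv_mul P
  have hM : ((N * N : GL (Fin m) F) : Matrix (Fin m) (Fin m) F).map (algebraMap F 𝕂) =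
      (P : Matrix (Fin m) (Fin m) (𝕂)) * diagonal (fun k : Fin m => (c * c) ^ 𝕢 ^ (k : ℕ)) *
        ((P⁻¹ : GL (Fin m) (𝕂)) : Matrix (Fin m) (Fin m) (𝕂)) := by
    rw [Units.val_mul, Matrix.map_mul, hN]
    calc (P : Matrix (Fin m) (Fin m) (𝕂)) * diagonal (fun k : Fin m => c ^ 𝕢 ^ (k : ℕ)) *
            ((P⁻¹ : GL (Fin m) (𝕂)) : Matrix (Fin m) (Fin m) (𝕂)) *
            ((P : Matrix (Fin m) (Fin m) (𝕂)) * diagonal (fun k : Fin m => c ^ 𝕢 ^ (k : ℕ)) *
              ((P⁻¹ : GL (Fin m) (𝕂)) : Matrix (Fin m) (Fin m) (𝕂)))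
        = (P : Matrix (Fin m) (Fin m) (𝕂)) * diagonal (fun k : Fin m => c ^ 𝕢 ^ (k : ℕ)) *
            (((P⁻¹ : GL (Fin m) (𝕂)) : Matrix (Fin m) (Fin m) (𝕂)) * (P : Matrix (Fin m) (Fin m) (𝕂))) *
              diagonal (fun k : Fin m => c ^ 𝕢 ^ (k : ℕ)) *
              ((P⁻¹ : GL (Fin m) (𝕂)) : Matrix (Fin m) (Fin m) (𝕂)) := by
          simp only [mul_assoc]
      _ = _ := by
          rw [hPP', mul_one, mul_assoc (P : Matrix (Fin m) (Fin m) (𝕂)), diagonal_mul_diagonal]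
          simp only [mul_pow]
  have hm : 0 < m := hd ▸ deg_pos hc
  have hord : orderOf (N * N) = orderOf (c * c) := by
    apply Nat.dvd_antisymm
    · rw [orderOf_dvd_iff hM]
      intro k
      rw [← pow_mul, mul_comm (𝕢 ^ (k : ℕ)), pow_mul, pow_orderOf_eq_one, one_pow]
    · have h1 := (orderOf_dvd_iff hM _).1 (dvd_refl (orderOf (N * N))) ⟨0, hm⟩
      simp only [pow_zero, pow_one] at h1
      exact orderOf_dvd_of_pow_eq_one h1
  have hcc : c * c ≠ 0 := mul_ne_zero hc hc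
  refine ⟨N, N * N, rfl, ?_, ⟨fun k => (c * c) ^ 𝕢 ^ (k : ℕ), P, S, hM, ?_⟩, ?_⟩
  · rw [hord]
    exact orderOf_not_dvd hcc
  · have h1 : ∀ k : Fin m, (if S k then ((c * c) ^ 𝕢 ^ (k : ℕ))⁻¹ else (c * c) ^ 𝕢 ^ (k : ℕ)) =
        (c * c) ^ ((if S k then (-1 : ℤ) else 1) * (𝕢 : ℤ) ^ (k : ℕ)) := by
      intro k
      by_cases h : S k = true
      · rw [if_pos h, if_pos h, neg_one_mul, _root_.zpow_neg]
        norm_cast
      · rw [if_neg h, if_neg h, one_mul]
        norm_cast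
    have h2 : ∀ s : Finset (Fin m), ∏ k ∈ s, (c * c) ^ ((if S k then (-1 : ℤ) else 1) * (𝕢 : ℤ) ^ (k : ℕ)) =
        (c * c) ^ (∑ k ∈ s, (if S k then (-1 : ℤ) else 1) * (𝕢 : ℤ) ^ (k : ℕ)) := by
      intro s
      classical
      induction s using Finset.induction_on with
      | empty => rw [Finset.prod_empty, Finset.sum_empty, zpow_zero]
      | insert a s ha ih => rw [Finset.prod_insert ha, Finset.sum_insert ha, zpow_add₀ hcc, ih]
    rw [Finset.prod_congr rfl fun k _ => h1 k, h2]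
    obtain ⟨z, hz⟩ := hS
    rw [hz, _root_.zpow_mul, zpow_natCast, pow_orderOf_eq_one, _root_.one_zpow]
  · rw [hord]
    exact hbig

theorem orderOf_sq {c : 𝕂} {n : ℕ} (h : orderOf c = n) (hn : Odd n) : orderOf (c * c) = n := by
  subst h
  rw [← pow_two]
  exact (Nat.Coprime.orderOf_pow (Nat.coprime_two_right.2 hn))

theorem two_le_card : 2 ≤ 𝕢 := Fintype.one_lt_card

/-- a prime with `q` of order `m` -/
theorem coprime_of_order {q r e : ℕ} (hr : r.Prime) (he : orderOf (q : ZMod r) = e) (h2 : 1 ≤ e) : Nat.Coprime q r :=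
  ((Nat.Prime.coprime_iff_not_dvd hr).2 (not_dvd_of_order hr he h2)).symm

/-- **`m` odd** -/
theorem mm_odd {p m : ℕ} [hp : Fact p.Prime] [CharP F p] (hm : 3 ≤ m) (hodd : Odd m) : MM F p m := by
  obtain ⟨r, hr, hrm⟩ := Cfsg.Agent.Lib.Zsigmondy.exists_prime_orderOf (a := 𝕢) (n := m) two_le_card (by omega)
    (fun h => by omega) (fun h => by
      obtain ⟨-, rfl⟩ := h
      exact absurd hodd (by decide))
  have hr2 := ne_two_of_order hr hrm (by omega)
  obtain ⟨c, hc, hco⟩ := exists_elem (F := F) (n := r) hr.ne_zero (coprime_of_order hr hrm (by omega))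
  have hro : Odd r := hr.odd_of_ne_two hr2
  have hcc := orderOf_sq hco hro
  have hd : deg c = m := by
    unfold deg
    rw [hco, hrm]
  refine mm_of hc hd (fun _ => false) ?_ ?_
  · rw [hcc]
    have : Fact r.Prime := ⟨hr⟩
    simp only [Bool.false_eq_true, if_false, one_mul]
    rw [← ZMod.intCast_zmod_eq_zero_iff_dvd] 
    push_cast
    rw [Fin.sum_univ_eq_sum_range (fun k => ((𝕢 : ℕ) : ZMod r) ^ k) m]
    have h1 := geom_sum_mul ((𝕢 : ℕ) : ZMod r) m
    rw [← hrm, pow_orderOf_eq_one, sub_self, hrm] at h1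
    refine (mul_eq_zero.1 h1).resolve_right ?_
    intro h2
    rw [sub_eq_zero] at h2
    rw [h2, orderOf_one] at hrm
    omega
  · rw [hcc]
    exact Or.inl ⟨hm, hodd, r, hr, dvd_refl r, hrm⟩

end Cfsg.Agent.H362.CV
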