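import Cfsg.Agent.H362.CV.Mm1

/-!
# S3442: the element of `GL_m(F)`, `m = 4`, `m = 6` (helper362)
-/

set_option autoImplicit false
set_option linter.unusedSectionVars false

namespace Cfsg.Agent.H362.CV

open Matrix Polynomial Cfsg.Agent.H416.CV

variable {F : Type*} [Field F] [Fintype F]

local notation "𝕂" => AlgebraicClosure F
local notation "𝕢" => Fintype.card F

theorem dvd_of_order {q r e k : ℕ} (he : orderOf (q : ZMod r) = e) (hk : e ∣ k) : (r : ℤ) ∣ (q : ℤ) ^ k - 1 := by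
  rw [← ZMod.intCast_zmod_eq_zero_iff_dvd]
  push_cast
  rw [sub_eq_zero]
  exact orderOf_dvd_iff_pow_eq_one.1 (he ▸ hk)

theorem not_dvd_of_order' {q r e k : ℕ} (he : orderOf (q : ZMod r) = e) (hk : ¬ e ∣ k) : ¬ (r : ℤ) ∣ (q : ℤ) ^ k - 1 := by
  intro h
  rw [← ZMod.intCast_zmod_eq_zero_iff_dvd] at h
  push_cast at h
  rw [sub_eq_zero] at h
  exact hk (he ▸ orderOf_dvd_of_pow_eq_one h)

theorem deg_dvd {c : 𝕂} {k : ℕ} (h : ((orderOf c : ℕ) : ℤ) ∣ (𝕢 : ℤ) ^ k - 1) : deg c ∣ k := by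
  unfold deg
  apply orderOf_dvd_of_pow_eq_one
  rw [← ZMod.intCast_zmod_eq_zero_iff_dvd] at h
  push_cast at h
  rw [sub_eq_zero] at h
  exact h

theorem ne_of_order {q r s a b : ℕ} (ha : orderOf (q : ZMod r) = a) (hb : orderOf (q : ZMod s) = b) (h : a ≠ b) : r ≠ s := by
  rintro rfl
  exact h (ha.symm.trans hb)

/-- **`m = 6`** -/
theorem mm_six {p : ℕ} [hp : Fact p.Prime] [CharP F p] (hq : 3 ≤ 𝕢) : MM F p 6 := by
  obtain ⟨r, hr, hr3⟩ := Cfsg.Agent.Lib.Zsigmondy.exists_prime_orderOf (a := 𝕢) (n := 3) two_le_card (by omega)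
    (fun h => by omega) (fun h => by omega)
  obtain ⟨s, hs, hs6⟩ := Cfsg.Agent.Lib.Zsigmondy.exists_prime_orderOf (a := 𝕢) (n := 6) two_le_card (by omega)
    (fun h => by omega) (fun h => by omega)
  have hr2 := ne_two_of_order hr hr3 (by omega)
  have hs2 := ne_two_of_order hs hs6 (by omega)
  have hrs : r ≠ s := ne_of_order hr3 hs6 (by omega)
  have hcop : Nat.Coprime r s := (Nat.coprime_primes hr hs).2 hrs
  obtain ⟨c, hc, hco⟩ := exists_elem (F := F) (n := r * s) (mul_ne_zero hr.ne_zero hs.ne_zero)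
    (Nat.Coprime.mul_right (coprime_of_order hr hr3 (by omega)) (coprime_of_order hs hs6 (by omega)))
  have hcc := orderOf_sq hco ((hr.odd_of_ne_two hr2).mul (hs.odd_of_ne_two hs2))
  have hcopz : IsCoprime (r : ℤ) (s : ℤ) := Nat.isCoprime_iff_coprime.2 hcop
  have hd : deg c = 6 := by
    apply Nat.dvd_antisymm
    · apply deg_dvd
      rw [hco]
      push_cast
      exact hcopz.mul_dvd (dvd_of_order hr3 (by norm_num)) (dvd_of_order hs6 (by norm_num))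
    · exact dvd_deg hc (hco ▸ dvd_mul_left s r) hs6
  refine mm_of hc hd (fun k => decide ((k : ℕ) % 2 = 1)) ?_ ?_
  · rw [hcc]
    push_cast
    have h1 : ∑ k : Fin 6, (if decide ((k : ℕ) % 2 = 1) = true then (-1 : ℤ) else 1) * (𝕢 : ℤ) ^ (k : ℕ) =
        (1 - (𝕢 : ℤ)) * (1 + (𝕢 : ℤ) ^ 2 + (𝕢 : ℤ) ^ 4) := by
      simp [Fin.sum_univ_succ]
      ring
    rw [h1]
    refine Dvd.dvd.mul_left ?_ _
    have h2 : ((𝕢 : ℤ) ^ 2 - 1) * (1 + (𝕢 : ℤ) ^ 2 + (𝕢 : ℤ) ^ 4) = (𝕢 : ℤ) ^ 6 - 1 := by ring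
    refine hcopz.mul_dvd ?_ ?_
    · have h3 : (r : ℤ) ∣ ((𝕢 : ℤ) ^ 2 - 1) * (1 + (𝕢 : ℤ) ^ 2 + (𝕢 : ℤ) ^ 4) := by
        rw [h2]; exact dvd_of_order hr3 (by norm_num)
      exact ((Nat.prime_iff_prime_int.1 hr).dvd_or_dvd h3).resolve_left (not_dvd_of_order' hr3 (by norm_num))
    · have h3 : (s : ℤ) ∣ ((𝕢 : ℤ) ^ 2 - 1) * (1 + (𝕢 : ℤ) ^ 2 + (𝕢 : ℤ) ^ 4) := by
        rw [h2]; exact dvd_of_order hs6 (by norm_num)
      exact ((Nat.prime_iff_prime_int.1 hs).dvd_or_dvd h3).resolve_left (not_dvd_of_order' hs6 (by norm_num))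
  · rw [hcc]
    exact Or.inr (Or.inr (Or.inl ⟨rfl, ⟨r, hr, dvd_mul_right r s, hr3⟩, s, hs, dvd_mul_left s r, hs6⟩))

/-- **`m = 4`** -/
theorem mm_four {p : ℕ} [hp : Fact p.Prime] [CharP F p] (hq : Odd (𝕢)) : MM F p 4 := by
  obtain ⟨r, hr, hr4⟩ := Cfsg.Agent.Lib.Zsigmondy.exists_prime_orderOf (a := 𝕢) (n := 4) two_le_card (by omega)
    (fun h => by omega) (fun h => by omega)
  have hr2 := ne_two_of_order hr hr4 (by omega)
  have hq2 : 2 ≤ 𝕢 := two_le_card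
  obtain ⟨j, hj⟩ := hq
  have hj1 : 1 ≤ j := by omega
  have hsq : 𝕢 ^ 2 - 1 = 4 * (j * (j + 1)) := by
    rw [hj]
    have : (2 * j + 1) ^ 2 = 4 * (j * (j + 1)) + 1 := by ring
    omega
  have hne : 𝕢 ^ 2 - 1 ≠ 0 := by
    rw [hsq]
    positivity
  obtain ⟨t, u, hu, htu⟩ := Nat.exists_eq_two_pow_mul_odd hne
  have h8 : 2 ^ 3 ∣ 𝕢 ^ 2 - 1 := by
    rw [hsq]
    obtain ⟨w, hw⟩ := Nat.even_mul_succ_self j
    rw [hw]
    exact ⟨w, by ring⟩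
  have hucop : ∀ k : ℕ, Nat.Coprime (2 ^ k) u := fun k => Nat.Coprime.pow_left k (Nat.coprime_two_left.2 hu)
  have ht3 : 3 ≤ t := by
    rw [htu] at h8
    exact (Nat.pow_dvd_pow_iff_le_right (by omega)).1 ((hucop 3).dvd_of_dvd_mul_right h8)
  have ht1 : ¬ 2 ^ (t + 1) ∣ 𝕢 ^ 2 - 1 := by
    intro h
    rw [htu] at h
    have := (Nat.pow_dvd_pow_iff_le_right (by omega)).1 ((hucop (t + 1)).dvd_of_dvd_mul_right h)
    omega
  have hz : ((𝕢 : ℤ)) ^ 2 - 1 = 2 ^ t * (u : ℤ) := by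
    have h1 : ((𝕢 ^ 2 - 1 : ℕ) : ℤ) = (2 ^ t * u : ℕ) := by rw [htu]
    rw [Nat.cast_sub (Nat.one_le_pow _ _ (by omega))] at h1
    push_cast at h1
    exact h1
  have hjz : (𝕢 : ℤ) = 2 * (j : ℤ) + 1 := by exact_mod_cast hj
  have h2q : (2 : ℤ) ∣ (𝕢 : ℤ) ^ 2 + 1 := ⟨2 * (j : ℤ) ^ 2 + 2 * j + 1, by rw [hjz]; ring⟩
  have hcq2 : Nat.Coprime (𝕢) (2 ^ (t + 1)) := Nat.Coprime.pow_right _ (Nat.coprime_two_right.2 ⟨j, hj⟩)
  obtain ⟨c, hc, hco⟩ := exists_elem (F := F) (n := r * 2 ^ (t + 1)) (mul_ne_zero hr.ne_zero (by positivity))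
    (Nat.Coprime.mul_right (coprime_of_order hr hr4 (by omega)) hcq2)
  have hcc : orderOf (c * c) = r * 2 ^ t := by
    rw [← pow_two, orderOf_pow_of_dvd (by norm_num) (by rw [hco, pow_succ]; exact ⟨r * 2 ^ t, by ring⟩), hco, pow_succ]
    have : r * (2 ^ t * 2) = (r * 2 ^ t) * 2 := by ring
    rw [this]
    exact Nat.mul_div_cancel _ (by norm_num)
  have hcopz : ∀ k : ℕ, IsCoprime (r : ℤ) ((2 : ℤ) ^ k) := by
    intro k
    have h1 : Nat.Coprime r (2 ^ k) := Nat.Coprime.pow_right _ (Nat.coprime_two_right.2 (hr.odd_of_ne_two hr2))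
    have h2 := Nat.isCoprime_iff_coprime.2 h1
    push_cast at h2
    exact h2
  have hd : deg c = 4 := by
    apply Nat.dvd_antisymm
    · apply deg_dvd
      rw [hco]
      push_cast
      refine (hcopz (t + 1)).mul_dvd (dvd_of_order hr4 (by norm_num)) ?_
      have h1 : (𝕢 : ℤ) ^ 4 - 1 = 2 ^ t * (u : ℤ) * ((𝕢 : ℤ) ^ 2 + 1) := by rw [← hz]; ring
      rw [h1, pow_succ]
      exact mul_dvd_mul (dvd_mul_right _ _) h2q
    · exact dvd_deg hc (hco ▸ dvd_mul_right r _) hr4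
  have hr1 : (r : ℤ) ∣ (𝕢 : ℤ) ^ 2 + 1 := by
    have h3 : (r : ℤ) ∣ ((𝕢 : ℤ) ^ 2 - 1) * ((𝕢 : ℤ) ^ 2 + 1) := by
      have h4 : ((𝕢 : ℤ) ^ 2 - 1) * ((𝕢 : ℤ) ^ 2 + 1) = (𝕢 : ℤ) ^ 4 - 1 := by ring
      rw [h4]; exact dvd_of_order hr4 (by norm_num)
    exact ((Nat.prime_iff_prime_int.1 hr).dvd_or_dvd h3).resolve_left (not_dvd_of_order' hr4 (by norm_num))
  have h2odd : ∀ k : ℤ, Odd k → IsCoprime ((2 : ℤ) ^ t) k := by
    intro k hk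
    apply IsCoprime.pow_left
    rw [Int.isCoprime_iff_gcd_eq_one]
    obtain ⟨l, rfl⟩ := hk
    rw [← Int.isCoprime_iff_gcd_eq_one]
    exact ⟨-l, 1, by ring⟩
  have hbig : Big (𝕢) 4 (orderOf (c * c)) := by
    rw [hcc]
    exact Or.inr (Or.inr (Or.inr ⟨rfl, ⟨r, hr, dvd_mul_right r _, hr4⟩, t, ht3, ht1, dvd_mul_left _ r⟩))
  rcases Nat.even_or_odd j with hje | hjo
  · -- `q ≡ 1 mod 4`
    refine mm_of hc hd (fun k => decide ((k : ℕ) % 2 = 1)) ?_ hbig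
    rw [hcc]
    push_cast
    have h1 : ∑ k : Fin 4, (if decide ((k : ℕ) % 2 = 1) = true then (-1 : ℤ) else 1) * (𝕢 : ℤ) ^ (k : ℕ) =
        (1 - (𝕢 : ℤ)) * ((𝕢 : ℤ) ^ 2 + 1) := by
      simp [Fin.sum_univ_succ]
      ring
    rw [h1]
    refine (hcopz t).mul_dvd (hr1.mul_left _) ?_
    have h3 : (2 : ℤ) ^ t ∣ (2 * j) * 2 * (j + 1) := ⟨u, by rw [← hz, hjz]; ring⟩
    have hodd : Odd ((j : ℤ) + 1) := by
      obtain ⟨l, hl⟩ := hje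
      exact ⟨l, by rw [hl]; push_cast; ring⟩
    have h4 := (h2odd _ hodd).dvd_of_dvd_mul_right h3
    have h5 : (1 - (𝕢 : ℤ)) = -(2 * j) := by rw [hjz]; ring
    rw [h5, neg_mul, dvd_neg]
    exact h4.trans (mul_dvd_mul_left _ h2q)
  · -- `q ≡ 3 mod 4`
    refine mm_of hc hd (fun k => false) ?_ hbig
    rw [hcc]
    push_cast
    have h1 : ∑ k : Fin 4, 1 * (𝕢 : ℤ) ^ (k : ℕ) =
        (1 + (𝕢 : ℤ)) * ((𝕢 : ℤ) ^ 2 + 1) := by
      simp [Fin.sum_univ_succ]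
      ring
    rw [h1]
    refine (hcopz t).mul_dvd (hr1.mul_left _) ?_
    have h3 : (2 : ℤ) ^ t ∣ (2 * (j + 1)) * 2 * j := ⟨u, by rw [← hz, hjz]; ring⟩
    have hodd : Odd (j : ℤ) := by exact_mod_cast hjo
    have h4 := (h2odd _ hodd).dvd_of_dvd_mul_right h3
    have h5 : (1 + (𝕢 : ℤ)) = (2 * (j + 1)) := by rw [hjz]; ring
    rw [h5]
    exact h4.trans (mul_dvd_mul_left _ h2q)

end Cfsg.Agent.H362.CV
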