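import Cfsg.Agent.H362.CV.Mm0
import Cfsg.Agent.H362.CV.Bridge
import Cfsg.Agent.H992.BB.Omega

/-!
# S3442: the own characteristic rows of the orthogonal groups from the element of `GL_m(F)` (helper362)
-/

set_option autoImplicit false

namespace Cfsg.Agent.H362.CV

open Cfsg QuadraticMap Matrix Cfsg.Agent.H373.CV Cfsg.Agent.H975.CVB Cfsg.Agent.H416.CV

universe u

variable (F : Type) [Field F] [Fintype F] (p : ℕ) [hp : Fact p.Prime] [CharP F p]

include hp in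
theorem odd_card (hp2 : p ≠ 2) : Odd (Fintype.card F) := by
  obtain ⟨k, hpp, hk⟩ := FiniteField.card F p
  rw [hk]
  exact (hpp.odd_of_ne_two hp2).pow

theorem exTwo_of {m : ℕ} (hp2 : p ≠ 2) (h : MM F p m) : ExTwo F p m := by
  obtain ⟨N, M, hNM, hpM, hdiag, hbig⟩ := h
  refine ⟨N, M, hNM, hpM, hdiag, ?_⟩
  intro ι _ _ B A hc hB hs hA hd
  have hC : Cen (A : Matrix ι ι F) m := cen_of_big (p := p) (odd_card F p hp2) hB hA (by omega) (hbig.mono hd)
  exact Cfsg.Agent.H416.CV.no_even hp2 hB hs hA (by omega) hC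

theorem ownX_of_mm (m : ℕ) (hp2 : p ≠ 2) (hm : 3 ≤ m) (h : MM F p m) : OwnX.{u, 0} p F m :=
  ownX_of hp2 (by omega) (Cfsg.Agent.H992.BB.fixRow F p m hp2 (by omega)) (exTwo_of F p hp2 h)

/-- **the field `plus_own`** -/
theorem plus_own_of (m : ℕ) (hp2 : p ≠ 2) (hm : 4 ≤ m) (h : MM F p (m - 1)) :
    Hit.{u, 0} p (POmega F (quadFormPlus m F)) :=
  plus_own hp2 hm (ownX_of_mm F p (m - 1) hp2 (by omega) h)

/-- **the field `minus_own`** -/
theorem minus_own_of (m : ℕ) (a b : F) (hp2 : p ≠ 2) (hm : 4 ≤ m)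
    (hab : ∀ z₁ z₂ : F, z₁ ^ 2 + a * z₁ * z₂ + b * z₂ ^ 2 = 0 → z₁ = 0 ∧ z₂ = 0) (h : MM F p (m - 1)) :
    Hit.{u, 0} p (POmega F (quadFormMinus (m - 1) F a b)) :=
  minus_own hp2 hm hab (ownX_of_mm F p (m - 1) hp2 (by omega) h)

end Cfsg.Agent.H362.CV
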