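import Cfsg.Agent.H362.CV.Mm2
import Cfsg.Agent.H362.CV.Own
import Cfsg.Agent.H45.CVN.Even

/-!
# S3442: the fields `plus_own`, `minus_own` of `HitRows` (helper362)
-/

set_option autoImplicit false

namespace Cfsg.Agent.H362.CV

open Cfsg Cfsg.Agent.H373.CV

universe u

variable (F : Type) [Field F] [Fintype F] (p : ℕ) [hp : Fact p.Prime] [CharP F p]

include hp in
/-- **the element of `GL_m(F)`, all `m ≥ 3`** -/
theorem mm_all (hp2 : p ≠ 2) (m : ℕ) (hm : 3 ≤ m) : MM F p m := by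
  have hq := odd_card F p hp2
  have hq3 : 3 ≤ Fintype.card F := by
    have h2 : 2 ≤ Fintype.card F := Fintype.one_lt_card
    obtain ⟨k, hk⟩ := hq
    omega
  rcases Nat.even_or_odd m with he | ho
  · obtain ⟨k, hk⟩ := id he
    obtain h | h | h : m = 4 ∨ m = 6 ∨ 8 ≤ m := by omega
    · subst h; exact mm_four hq
    · subst h; exact mm_six hq3
    · exact Cfsg.Agent.H45.CVN.mm_ge_eight hp2 h he hq3
  · exact mm_odd hm ho

include hp in
/-- **the field `plus_own`** -/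
theorem plus_own_all (m : ℕ) (hp2 : p ≠ 2) (hm : 4 ≤ m) : Hit.{u, 0} p (POmega F (quadFormPlus m F)) :=
  plus_own_of F p m hp2 hm (mm_all F p hp2 (m - 1) (by omega))

include hp in
/-- **the field `minus_own`** -/
theorem minus_own_all (m : ℕ) (a b : F) (hp2 : p ≠ 2) (hm : 4 ≤ m)
    (hab : ∀ z₁ z₂ : F, z₁ ^ 2 + a * z₁ * z₂ + b * z₂ ^ 2 = 0 → z₁ = 0 ∧ z₂ = 0) :
    Hit.{u, 0} p (POmega F (quadFormMinus (m - 1) F a b)) :=
  minus_own_of F p m a b hp2 hm hab (mm_all F p hp2 (m - 1) (by omega))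

end Cfsg.Agent.H362.CV
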