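import Cfsg.Agent.H416.CV.Ev

/-!
# S3442: isometries in dimension `2m + 2` with `2m` simple eigenvalues (helper362)

`no_even` : the order of such an isometry of a nonsingular symmetric bilinear form is prime to `p` (`p` odd).
-/

set_option autoImplicit false
set_option linter.unusedSectionVars false

namespace Cfsg.Agent.H362.CV

open Matrix Polynomial Cfsg.Agent.H559.UnitMult Cfsg.Agent.H416.CV Module

section lin

variable {K : Type*} [Field K] {V : Type*} [AddCommGroup V] [Module K V] [FiniteDimensional K V]

/-- a polynomial with the roots `T` (eigenvalues) has a kernel of dimension at least `|T|` -/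
theorem card_le_ker (N : Module.End K V) (T : Finset K) (hT : ∀ t ∈ T, N.HasEigenvalue t) :
    T.card ≤ finrank K (LinearMap.ker (aeval N (pr T.val))) := by
  classical
  choose v hv using fun t : T => (hT t t.2).exists_hasEigenvector
  have hli : LinearIndependent K v :=
    Module.End.eigenvectors_linearIndependent' N (fun t : T => (t : K)) Subtype.val_injective v hv
  have hmem : ∀ t, v t ∈ LinearMap.ker (aeval N (pr T.val)) := by
    intro t
    rw [LinearMap.mem_ker]
    have h1 := Module.End.aeval_apply_of_hasEigenvector (p := pr T.val) (hv t)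
    rw [h1]
    have h2 : eval (t : K) (pr T.val) = 0 := by
      have h3 : (t : K) ∈ (pr T.val).roots := by
        rw [pr_roots]
        exact t.2
      exact (mem_roots (pr_ne _)).1 h3
    rw [h2, zero_smul]
  have h1 : LinearIndependent K (fun t : T => (⟨v t, hmem t⟩ : LinearMap.ker (aeval N (pr T.val)))) := by
    refine LinearIndependent.of_comp (LinearMap.ker (aeval N (pr T.val))).subtype ?_
    exact hli
  have h2 := h1.fintype_card_le_finrank
  rwa [Fintype.card_coe] at h2

/-- the core: `(N - ε)² f(N) = 0`, `f(N)` of rank at most two -/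
theorem core (b : LinearMap.BilinForm K V) (hb : ∀ u, (∀ x, b u x = 0) → u = 0) (hs : ∀ x y, b x y = b y x) (h2 : (2 : K) ≠ 0)
    (N : Module.End K V) (hN : ∀ x y, b (N x) (N y) = b x y) {ε : K} (hε : ε * ε = 1) (T : Finset K)
    (hT : ∀ t ∈ T, N.HasEigenvalue t) (hεT : ε ∉ T) (hcard : finrank K V ≤ T.card + 2)
    (h : ∀ v, (N - algebraMap K (Module.End K V) ε) ((N - algebraMap K (Module.End K V) ε) (aeval N (pr T.val) v)) = 0) (v : V) :
    (N - algebraMap K (Module.End K V) ε) (aeval N (pr T.val) v) = 0 := by
  classical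
  set f : Module.End K V := aeval N (pr T.val) with hf
  set w := f v with hw
  set u := (N - algebraMap K (Module.End K V) ε) w with hu
  by_contra hu0
  have hNu : N u = ε • u := by
    have h1 := h v
    rw [LinearMap.sub_apply, Module.algebraMap_end_apply, sub_eq_zero] at h1
    exact h1
  have hNw : N w = u + ε • w := by
    rw [hu, LinearMap.sub_apply, Module.algebraMap_end_apply]
    abel
  -- `b(u, u) = 0` and `b(u, w) = 0`
  have huu : b u u = 0 := by
    have h1 := hN w u
    rw [hNw, hNu, map_add, LinearMap.add_apply, map_smul, map_smul, map_smul, LinearMap.smul_apply, smul_eq_mul,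
      smul_eq_mul, smul_eq_mul] at h1
    have h3 : ε * b u u = 0 := by linear_combination h1 - hε * b w u
    rcases mul_eq_zero.1 h3 with h4 | h4
    · rw [h4, mul_zero] at hε
      exact absurd hε zero_ne_one
    · exact h4
  have huw : b u w = 0 := by
    have h1 := hN w w
    rw [hNw] at h1
    simp only [map_add, LinearMap.add_apply, map_smul, LinearMap.smul_apply, smul_eq_mul] at h1
    have h3 : 2 * ε * b u w = 0 := by
      linear_combination h1 - hε * b w w - huu - ε * hs w u
    rcases mul_eq_zero.1 h3 with h4 | h4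
    · rcases mul_eq_zero.1 h4 with h5 | h5
      · exact absurd h5 h2
      · rw [h5, mul_zero] at hε
        exact absurd hε zero_ne_one
    · exact h4
  -- `u` and `w` are independent
  have hli : LinearIndependent K ![u, w] := by
    rw [LinearIndependent.pair_iff]
    intro s t hst
    have h1 := congrArg (N - algebraMap K (Module.End K V) ε) hst
    rw [map_add, map_smul, map_smul, map_zero, ← hu] at h1
    have h3 : (N - algebraMap K (Module.End K V) ε) u = 0 := by
      rw [LinearMap.sub_apply, Module.algebraMap_end_apply, hNu, sub_self]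
    rw [h3, smul_zero, zero_add] at h1
    have ht : t = 0 := (smul_eq_zero.1 h1).resolve_right hu0
    rw [ht, zero_smul, add_zero] at hst
    exact ⟨(smul_eq_zero.1 hst).resolve_right hu0, ht⟩
  -- the range of `f` is spanned by them
  have hcomm : ∀ x, N (f x) = f (N x) := by
    intro x
    have h1 := congrArg (aeval N) (mul_comm (X : K[X]) (pr T.val))
    rw [map_mul, map_mul, aeval_X, ← hf] at h1
    exact LinearMap.congr_fun h1 x
  have hum : u ∈ LinearMap.range f := by
    refine ⟨(N - algebraMap K (Module.End K V) ε) v, ?_⟩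
    rw [hu, hw, LinearMap.sub_apply, LinearMap.sub_apply, map_sub, hcomm, Module.algebraMap_end_apply,
      Module.algebraMap_end_apply, map_smul]
  have hwm : w ∈ LinearMap.range f := ⟨v, rfl⟩
  have hrank : finrank K (LinearMap.range f) ≤ 2 := by
    have h1 := LinearMap.finrank_range_add_finrank_ker f
    have h3 := card_le_ker N T hT
    rw [← hf] at h3
    omega
  have hspan : Submodule.span K (Set.range ![u, w]) = LinearMap.range f := by
    apply Submodule.eq_of_le_of_finrank_le
    · rw [Submodule.span_le]
      rintro _ ⟨i, rfl⟩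
      fin_cases i
      · exact hum
      · exact hwm
    · rw [finrank_span_eq_card hli, Fintype.card_fin]
      exact hrank
  have hperp : ∀ x, b u (f x) = 0 := by
    intro x
    have h1 : f x ∈ Submodule.span K (Set.range ![u, w]) := by
      rw [hspan]
      exact ⟨x, rfl⟩
    rw [Submodule.mem_span_range_iff_exists_fun] at h1
    obtain ⟨c, hc⟩ := h1
    rw [← hc, Fin.sum_univ_two]
    simp only [Matrix.cons_val_zero, Matrix.cons_val_one, map_add, map_smul, huu, huw, smul_zero, add_zero]
  -- `b(u, f(N) x) = f(ε) b(u, x)`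
  have hstep : ∀ t x, b u ((N - algebraMap K (Module.End K V) t) x) = (ε - t) * b u x := by
    intro t x
    have h1 := hN u x
    rw [hNu, map_smul, LinearMap.smul_apply, smul_eq_mul] at h1
    rw [LinearMap.sub_apply, Module.algebraMap_end_apply, map_sub, map_smul, smul_eq_mul]
    linear_combination ε * h1 - hε * b u (N x)
  have hprod : ∀ (s : Multiset K) (x : V), b u (aeval N (pr s) x) = (s.map fun t => ε - t).prod * b u x := by
    intro s
    induction s using Multiset.induction_on with
    | empty => intro x; simp [pr]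
    | cons a s ih =>
      intro x
      have h1 : pr (a ::ₘ s) = (X - C a) * pr s := by
        unfold pr
        rw [Multiset.map_cons, Multiset.prod_cons]
      rw [h1, map_mul, map_sub, aeval_X, aeval_C, Module.End.mul_apply, hstep, ih, Multiset.map_cons,
        Multiset.prod_cons, mul_assoc]
  have hzero : ∀ x, b u x = 0 := by
    intro x
    have h1 := hprod T.val x
    rw [← hf, hperp] at h1
    rcases mul_eq_zero.1 h1.symm with h3 | h3
    · exfalso
      rw [Multiset.prod_eq_zero_iff, Multiset.mem_map] at h3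
      obtain ⟨t, ht, ht'⟩ := h3
      exact hεT ((sub_eq_zero.1 ht') ▸ ht)
    · exact h3
  exact hu0 (hb u hzero)

end lin

section mat

variable {F : Type*} [Field F] [Fintype F] {ι : Type*} [Fintype ι] [DecidableEq ι]

local notation "𝕂" => AlgebraicClosure F

theorem hasEigenvalue_of_mem {M : Matrix ι ι (𝕂)} {t : 𝕂} (h : t ∈ M.charpoly.roots) :
    Module.End.HasEigenvalue (Matrix.toLinAlgEquiv' M : Module.End (𝕂) (ι → 𝕂)) t := by
  rw [mem_roots M.charpoly_monic.ne_zero, IsRoot.def, Matrix.eval_charpoly] at h
  obtain ⟨v, hv0, hv⟩ := Matrix.exists_mulVec_eq_zero_iff.2 h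
  refine Module.End.hasEigenvalue_of_hasEigenvector (x := v) ⟨?_, hv0⟩
  rw [Module.End.mem_eigenspace_iff]
  rw [Matrix.sub_mulVec, sub_eq_zero] at hv
  have h1 : (Matrix.scalar ι t) *ᵥ v = t • v := by
    rw [Matrix.scalar_apply, Matrix.diagonal_const_mulVec]
  rw [h1] at hv
  exact hv.symm

open Classical in
/-- **`2m` simple eigenvalues in dimension `2m + 2`** -/
theorem no_even {p : ℕ} [hp : Fact p.Prime] [CharP F p] (hp2 : p ≠ 2) {m : ℕ} (hc : Fintype.card ι = 2 * m + 2)
    {B : Matrix ι ι F} (hB : IsUnit B) (hBt : Bᵀ = B) {A : GL ι F}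
    (hA : (A : Matrix ι ι F)ᵀ * B * (A : Matrix ι ι F) = B) (T : Finset (𝕂)) (hT : T.card = 2 * m)
    (hcount : ∀ t ∈ T, (ev (A : Matrix ι ι F)).count t = 1) : ¬ p ∣ orderOf A := by
  intro hp0
  have hKp : CharP 𝕂 p := charP_of_injective_algebraMap (algebraMap F 𝕂).injective p
  have h2 : (2 : 𝕂) ≠ 0 := by
    intro h
    have h1 : ((2 : ℕ) : 𝕂) = 0 := by exact_mod_cast h
    have h2 := (CharP.cast_eq_zero_iff 𝕂 p 2).1 h1
    exact hp2 ((Nat.prime_dvd_prime_iff_eq hp.out Nat.prime_two).1 h2)
  obtain ⟨a, ha⟩ := exists_double hp0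
  set s := ev (A : Matrix ι ι F) with hs
  have hcard : s.card = 2 * m + 2 := by rw [hs, card_ev, hc]
  have h0 : (0 : 𝕂) ∉ s := zero_notMem_ev A.isUnit
  have haT : a ∉ T := fun h => by have := hcount a h; omega
  have hle : T.val + {a, a} ≤ s := by
    rw [Multiset.le_iff_count]
    intro t
    rw [Multiset.count_add]
    by_cases h3 : t ∈ T
    · have h4 : t ≠ a := fun h => haT (h ▸ h3)
      have h5 : T.val.count t = 1 := Multiset.count_eq_one_of_mem T.nodup h3
      have h6 : ({a, a} : Multiset 𝕂).count t = 0 := by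
        rw [Multiset.count_eq_zero]
        simp [h4]
      rw [h5, h6, hcount t h3]
    · have h5 : T.val.count t = 0 := Multiset.count_eq_zero.2 h3
      rw [h5, zero_add]
      by_cases h4 : t = a
      · subst h4
        simpa using ha
      · have h6 : ({a, a} : Multiset 𝕂).count t = 0 := by
          rw [Multiset.count_eq_zero]
          simp [h4]
        rw [h6]
        exact Nat.zero_le _
  have heq : T.val + {a, a} = s := by
    refine Multiset.eq_of_le_of_card_le hle ?_
    rw [hcard, Multiset.card_add]
    simp [hT]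
  have ha0 : a ≠ 0 := by
    rintro rfl
    exact h0 (Multiset.count_pos.1 (by omega))
  have hinv : s.count a⁻¹ = s.count a := count_inv hB hA a
  have haa : a * a = 1 := by
    by_contra hcon
    have h3 : a⁻¹ ≠ a := by
      intro h
      apply hcon
      nth_rewrite 1 [← h]
      exact inv_mul_cancel₀ ha0
    have h4 : a⁻¹ ∉ T := fun h => by have := hcount _ h; omega
    have h5 : s.count a⁻¹ = 0 := by
      rw [← heq, Multiset.count_add, Multiset.count_eq_zero.2 h4, zero_add, Multiset.count_eq_zero]
      simp [h3]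
    omega
  set M := (A : Matrix ι ι F).map (algebraMap F 𝕂) with hM
  set N : Module.End 𝕂 (ι → 𝕂) := Matrix.toLinAlgEquiv' M with hN
  set B' := B.map (algebraMap F 𝕂) with hB'
  have hBu : IsUnit B' := hB.map (algebraMap F 𝕂).mapMatrix
  have hAB : Mᵀ * B' * M = B' := by
    have h3 := congrArg (fun X : Matrix ι ι F => X.map (algebraMap F 𝕂)) hA
    simp only [Matrix.map_mul] at h3
    rw [Matrix.transpose_map] at h3
    exact h3
  have hNv : ∀ v, N v = M *ᵥ v := fun v => Matrix.toLinAlgEquiv'_apply M v
  let b : LinearMap.BilinForm 𝕂 (ι → 𝕂) := Matrix.toBilin' B'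
  have hbv : ∀ x y, b x y = x ⬝ᵥ (B' *ᵥ y) := fun x y => Matrix.toBilin'_apply' B' x y
  have hpr : M.charpoly = (X - C a) * ((X - C a) * pr T.val) := by
    have h3 : M.charpoly = pr s := charpoly_eq_pr M
    rw [h3, ← heq, pr_add]
    have h4 : pr ({a, a} : Multiset 𝕂) = (X - C a) * (X - C a) := by
      unfold pr
      simp
    rw [h4]
    ring
  have hkey : ∀ v, (N - algebraMap 𝕂 (Module.End 𝕂 (ι → 𝕂)) a) (aeval N (pr T.val) v) = 0 := by
    refine core b ?_ ?_ h2 N ?_ haa T ?_ haT ?_ ?_
    · intro u hu
      have h3 : u ᵥ* B' = 0 := by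
        funext i
        have h4 := hu (Pi.single i 1)
        rw [hbv, Matrix.dotProduct_mulVec] at h4
        simpa using h4
      have h5 := congrArg (fun w => w ᵥ* B'⁻¹) h3
      simp only [Matrix.vecMul_vecMul, Matrix.zero_vecMul] at h5
      rwa [Matrix.mul_nonsing_inv _ ((Matrix.isUnit_iff_isUnit_det B').1 hBu), Matrix.vecMul_one] at h5
    · intro x y
      rw [hbv, hbv, Matrix.dotProduct_mulVec, ← Matrix.mulVec_transpose, dotProduct_comm]
      have h3 : B'ᵀ = B' := by rw [hB', ← Matrix.transpose_map, hBt]
      rw [h3]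
    · intro x y
      rw [hbv, hbv, hNv, hNv, Matrix.mulVec_mulVec, Matrix.dotProduct_mulVec, ← Matrix.vecMul_transpose,
        Matrix.vecMul_vecMul, ← mul_assoc, hAB, ← Matrix.dotProduct_mulVec]
    · intro t ht
      have h3 : t ∈ s := by
        rw [← heq]
        exact Multiset.mem_add.2 (Or.inl ht)
      exact hasEigenvalue_of_mem h3
    · rw [Module.finrank_fintype_fun_eq_card, hc, hT]
    · intro v
      have h3 : aeval N M.charpoly = 0 := by
        rw [hN]
        have h4 := Polynomial.aeval_algHom_apply (Matrix.toLinAlgEquiv' (R := 𝕂) (n := ι)).toAlgHom M M.charpoly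
        rw [Matrix.aeval_self_charpoly, map_zero] at h4
        exact h4
      rw [hpr, map_mul, map_mul, map_sub, aeval_X, aeval_C] at h3
      exact LinearMap.congr_fun h3 v
  -- the order
  set c := a ::ₘ T.val with hcdef
  have hcn : c.Nodup := Multiset.nodup_cons.2 ⟨haT, T.nodup⟩
  have hc0 : ∀ t ∈ c, t ≠ 0 := by
    intro t ht
    rcases Multiset.mem_cons.1 ht with rfl | ht
    · exact ha0
    · rintro rfl
      exact h0 (Multiset.count_pos.1 (by rw [hcount _ ht]; exact one_pos))
  set k := (c.map fun t => orderOf t).prod with hk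
  have hk0 : k ≠ 0 := by
    intro hx
    obtain ⟨t, ht, ht2⟩ := Multiset.mem_map.1 (Multiset.prod_eq_zero_iff.1 (hk ▸ hx))
    have := orderOf_pos' (F := F) (hc0 t ht)
    omega
  have h3 : pr c ∣ X ^ k - C 1 := by
    refine pr_dvd_of_nodup (X_pow_sub_C_ne_zero (Nat.pos_of_ne_zero hk0) 1) hcn ?_
    intro t ht
    rw [eval_sub, eval_pow, eval_X, eval_C, sub_eq_zero]
    exact orderOf_dvd_iff_pow_eq_one.1 (Multiset.dvd_prod (Multiset.mem_map_of_mem _ ht))
  have h4 : aeval N (pr c) = 0 := by
    have h5 : pr c = (X - C a) * pr T.val := by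
      rw [hcdef]
      unfold pr
      rw [Multiset.map_cons, Multiset.prod_cons]
    rw [h5, map_mul, map_sub, aeval_X, aeval_C]
    exact LinearMap.ext hkey
  have h5 : N ^ k = 1 := by
    obtain ⟨g, hg⟩ := h3
    have h6 := congrArg (aeval N) hg
    rw [map_mul, h4, zero_mul, map_sub, map_pow, aeval_X, aeval_C, map_one, sub_eq_zero] at h6
    exact h6
  have h6 : M ^ k = 1 := by
    apply (Matrix.toLinAlgEquiv' (R := 𝕂) (n := ι)).injective
    rw [map_pow, map_one]
    exact h5
  have h7 := hp0.trans (orderOf_descend h6)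
  obtain ⟨n, hn, hpn⟩ := hp.out.prime.exists_mem_multiset_dvd h7
  obtain ⟨t, ht, rfl⟩ := Multiset.mem_map.1 hn
  exact orderOf_not_dvd (p := p) (hc0 t ht) hpn

end mat

end Cfsg.Agent.H362.CV
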